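import Cfsg.Agent.EqLemmas
import Cfsg.Agent.Lib.BicyclicFusion.CyclicData
import Cfsg.Agent.S1896
import Mathlib.GroupTheory.SpecificGroups.Quaternion

/-!
# Bicyclic 2-groups with cyclic derived group: rank and automorphisms of subgroups (owner: helper56)

* `card_le_four` : if `b ^ 2` is the involution of `⟨c⟩` then elementary abelian subgroups have
  order at most four;
* `M` : the maximal subgroup `⟨b⟩Φ`, of index two;
* `isPGroup_mulAut_of_not_le` : if `b ^ 2 = 1` and `∑ ρ ^ j ≡ 4 l` mod `2 ^ (n + 1)` then a proper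
  subgroup outside `M` has only 2-automorphisms.
-/

set_option autoImplicit false
set_option linter.style.haveILetI false
set_option linter.unusedSectionVars false

namespace Cfsg.Agent.BicyclicSimple

open Subgroup BicyclicFusion BicyclicFusion.Realize
open scoped commutatorElement

theorem geom_two_pow {ρ : ℤ} (h4 : (4 : ℤ) ∣ ρ - 1) (r : ℕ) :
    ∃ u : ℤ, Odd u ∧ geom ρ (2 ^ r) = 2 ^ r * u := by
  induction r with
  | zero => exact ⟨1, odd_one, by simp [geom]⟩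
  | succ r ih =>
    obtain ⟨u, hu, e⟩ := ih
    obtain ⟨k, hk⟩ := h4.trans (sub_one_dvd_pow_sub_one ρ (2 ^ r))
    refine ⟨u * (2 * k + 1), hu.mul ⟨k, rfl⟩, ?_⟩
    rw [pow_succ 2 r, Nat.mul_two, geom_two_mul, e, show ρ ^ 2 ^ r + 1 = 2 * (2 * k + 1) by omega,
      pow_succ]
    ring

theorem odd_of_four_dvd {ρ : ℤ} (h4 : (4 : ℤ) ∣ ρ - 1) : Odd ρ := by
  obtain ⟨k, hk⟩ := h4
  exact ⟨2 * k, by omega⟩

theorem good_two_le {ρ l : ℤ} {n r : ℕ} (hn : 1 ≤ n) (h4 : (4 : ℤ) ∣ ρ - 1)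
    (hgood : geom ρ (2 ^ r) ≡ 4 * l [ZMOD 2 ^ (n + 1)]) : 2 ≤ r := by
  have hd : (4 : ℤ) ∣ 4 * l - geom ρ (2 ^ r) := by
    refine dvd_trans ?_ (Int.modEq_iff_dvd.1 hgood)
    rw [show (4 : ℤ) = 2 ^ 2 by norm_num]
    exact pow_dvd_pow 2 (by omega)
  obtain ⟨u, ⟨v, rfl⟩, hu⟩ := geom_two_pow h4 r
  rw [hu] at hd
  obtain ⟨w, hw⟩ := hd
  rcases r with _ | _ | r
  · omega
  · omega
  · omega

variable {X : Type*} [Group X] [Finite X] {n r : ℕ} {e ρ l : ℤ} (d : SData X n r e ρ l)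

/-- The normal subgroup `⟨c, b⟩`. -/
def T : Subgroup X := closure {d.c, d.b}

instance T_normal : (T d).Normal := closure_normal d.gen d.conj_c d.conj_b d.rel.inv

theorem c_mem : d.c ∈ T d := subset_closure (by simp)

theorem b_mem : d.b ∈ T d := subset_closure (by simp)

theorem apow_mem {k : ℤ} (h : (2 : ℤ) ^ r ∣ k) : d.a ^ k ∈ T d := by
  obtain ⟨m, rfl⟩ := h
  rw [zpow_mul, show ((2 : ℤ) ^ r) = ((2 ^ r : ℕ) : ℤ) by push_cast; rfl, zpow_natCast, d.a_pow]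
  exact zpow_mem (zpow_mem (c_mem d) _) _

theorem repr (x : X) : ∃ t ∈ T d, ∃ k : ℤ, x = t * d.a ^ k := by
  have hx : x ∈ T d ⊔ zpowers d.a := by
    have : closure {d.a, d.b} ≤ T d ⊔ zpowers d.a := (closure_le _).2 (by
      rintro y (rfl | rfl)
      exacts [mem_sup_right (mem_zpowers _), mem_sup_left (b_mem d)])
    exact this (d.gen ▸ mem_top x)
  rw [← SetLike.mem_coe, normal_mul] at hx
  obtain ⟨t, ht, s, hs, rfl⟩ := hx
  obtain ⟨k, rfl⟩ := mem_zpowers_iff.1 hs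
  exact ⟨t, ht, k, rfl⟩

theorem mul_mem_T_iff {t : X} (ht : t ∈ T d) (k : ℤ) : t * d.a ^ k ∈ T d ↔ (2 : ℤ) ^ r ∣ k :=
  ⟨fun h => d.a_mem k ((mul_mem_cancel_left ht).1 h), fun h => mul_mem ht (apow_mem d h)⟩

theorem mul_repr {t t' : X} (ht : t ∈ T d) (ht' : t' ∈ T d) (k k' : ℤ) :
    ∃ s ∈ T d, t * d.a ^ k * (t' * d.a ^ k') = s * d.a ^ (k + k') :=
  ⟨t * (d.a ^ k * t' * (d.a ^ k)⁻¹), mul_mem ht ((T_normal d).conj_mem t' ht' _), by
    rw [zpow_add]; group⟩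

theorem zpow_repr {t : X} (ht : t ∈ T d) (k m : ℤ) :
    ∃ s ∈ T d, (t * d.a ^ k) ^ m = s * d.a ^ (k * m) := by
  refine ⟨(t * d.a ^ k) ^ m * (d.a ^ (k * m))⁻¹, ?_, by group⟩
  rw [← QuotientGroup.eq_one_iff (N := T d), QuotientGroup.mk_mul, QuotientGroup.mk_inv,
    QuotientGroup.mk_zpow, QuotientGroup.mk_mul, (QuotientGroup.eq_one_iff t).2 ht, one_mul,
    ← QuotientGroup.mk_zpow, ← zpow_mul, mul_inv_cancel]

section Quaternion

include d in
/-- If `b ^ 2` is the involution of `⟨c⟩`, an elementary abelian subgroup has order at most four. -/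
theorem card_le_four (hn : 2 ≤ n) (he : e = 2 ^ (n - 1)) (A : Subgroup X)
    (hA : ∀ x ∈ A, x ^ 2 = 1) : Nat.card A ≤ 4 := by
  set z := d.c ^ e with hz
  have h2n : (2 : ℤ) ^ n = 2 * 2 ^ (n - 1) := by
    rw [← pow_succ', show n - 1 + 1 = n by omega]
  have hT2 : ∀ x ∈ T d, x ^ 2 = 1 → x = 1 ∨ x = z := by
    intro x hx h2
    obtain ⟨i, rfl | rfl⟩ := d.rel.cases hx
    · rw [pow_two, ← zpow_add, ← orderOf_dvd_iff_zpow_eq_one, d.rel.ord] at h2
      push_cast at h2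
      obtain ⟨q, hq⟩ := h2
      have hi : i = 2 ^ (n - 1) * q := by rw [h2n] at hq; linarith
      rcases Int.even_or_odd q with ⟨s, rfl⟩ | ⟨s, rfl⟩
      · left
        rw [← orderOf_dvd_iff_zpow_eq_one, d.rel.ord]
        exact ⟨s, by push_cast; rw [h2n, hi]; ring⟩
      · right
        rw [hz, zpow_eq_zpow_iff_modEq, d.rel.ord, Int.modEq_iff_dvd]
        exact ⟨-s, by push_cast; rw [h2n, hi, he]; ring⟩
    · exfalso
      rw [pow_two, mul_assoc, ← mul_assoc d.b, d.rel.swap, mul_assoc _ d.b d.b, d.rel.sq, ← zpow_add,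
        ← zpow_add, show i + (-i + e) = e by ring, ← orderOf_dvd_iff_zpow_eq_one, d.rel.ord, he] at h2
      have h2' : 2 ^ n ∣ 2 ^ (n - 1) := by exact_mod_cast h2
      rw [Nat.pow_dvd_pow_iff_le_right (by norm_num)] at h2'
      omega
  have hA' : ∀ x ∈ A, ∀ y ∈ A, x ∉ T d → y ∉ T d → x * y ∈ T d := by
    intro x hx y hy hxT hyT
    obtain ⟨t, ht, k, rfl⟩ := repr d x
    obtain ⟨t', ht', k', rfl⟩ := repr d y
    have hev : ∀ (u : X) (m : ℤ), u ∈ T d → u * d.a ^ m ∈ A → (2 : ℤ) ^ r ∣ m + m := by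
      intro u m hu hm
      obtain ⟨s, hs, e1⟩ := mul_repr d hu hu m m
      have h := hA _ hm
      rw [pow_two, e1] at h
      exact (mul_mem_T_iff d hs _).1 (h ▸ one_mem _)
    obtain ⟨p, hp⟩ := hev t k ht hx
    obtain ⟨p', hp'⟩ := hev t' k' ht' hy
    have hpo : Odd p := by
      by_contra hc
      obtain ⟨q, rfl⟩ := Int.not_odd_iff_even.1 hc
      exact hxT ((mul_mem_T_iff d ht k).2 ⟨q, by linarith⟩)
    have hpo' : Odd p' := by
      by_contra hc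
      obtain ⟨q, rfl⟩ := Int.not_odd_iff_even.1 hc
      exact hyT ((mul_mem_T_iff d ht' k').2 ⟨q, by linarith⟩)
    obtain ⟨q, hq⟩ := hpo.add_odd hpo'
    obtain ⟨s, hs, e1⟩ := mul_repr d ht ht' k k'
    rw [e1]
    exact (mul_mem_T_iff d hs _).2 ⟨q, by linarith [congrArg ((2 : ℤ) ^ r * ·) hq]⟩
  classical
  have hcases : ∃ x₀ : X, ∀ x ∈ A, x = 1 ∨ x = z ∨ x = x₀ ∨ x = x₀ * z := by
    by_cases h : ∀ x ∈ A, x ∈ T d
    · exact ⟨1, fun x hx => (hT2 x (h x hx) (hA x hx)).imp_right Or.inl⟩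
    · push Not at h
      obtain ⟨x₀, hx₀, hx₀T⟩ := h
      refine ⟨x₀, fun x hx => ?_⟩
      by_cases hxT : x ∈ T d
      · exact (hT2 x hxT (hA x hx)).imp_right Or.inl
      · have hm : x₀ * x ∈ A := mul_mem hx₀ hx
        have hxe : x = x₀ * (x₀ * x) := by rw [← mul_assoc, ← pow_two, hA x₀ hx₀, one_mul]
        rcases hT2 _ (hA' x₀ hx₀ x hx hx₀T hxT) (hA _ hm) with h1 | h1
        · exact Or.inr (Or.inr (Or.inl (by rw [hxe, h1, mul_one])))
        · exact Or.inr (Or.inr (Or.inr (by rw [hxe, h1])))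
  obtain ⟨x₀, h⟩ := hcases
  have hsub : (A : Set X) ⊆ ({1, z, x₀, x₀ * z} : Set X) := fun x hx => by simpa using h x hx
  calc Nat.card A = (A : Set X).ncard := rfl
    _ ≤ ({1, z, x₀, x₀ * z} : Set X).ncard := Set.ncard_le_ncard hsub (Set.toFinite _)
    _ ≤ 4 := (Set.ncard_insert_le _ _).trans (Nat.succ_le_succ ((Set.ncard_insert_le _ _).trans
      (Nat.succ_le_succ ((Set.ncard_insert_le _ _).trans (by rw [Set.ncard_singleton])))))

end Quaternion

/-- The maximal subgroup `⟨b⟩Φ`. -/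
def M : Subgroup X := zpowers d.b ⊔ frattini X

theorem T_le_M (hX : IsPGroup 2 X) : T d ≤ M d := by
  haveI : Fact (Nat.Prime 2) := ⟨Nat.prime_two⟩
  refine (closure_le _).2 ?_
  rintro x (rfl | rfl)
  · refine mem_sup_right (PGroup.commutator_le_frattini hX ?_)
    have : d.c = ⁅d.a, d.b⁆ := by rw [commutatorElement_def, d.conj_b, mul_inv_cancel_right]
    rw [this]
    exact commutator_mem_commutator (mem_top _) (mem_top _)
  · exact mem_sup_left (mem_zpowers _)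

theorem a_notMem_M (hm : ¬ Cfsg.IsMetacyclic X) : d.a ∉ M d := by
  haveI : Fact (Nat.Prime 2) := ⟨Nat.prime_two⟩
  intro ha
  have h : M d = ⊤ := eq_top_iff.2 (d.gen ▸ (closure_le _).2 (by
    rintro x (rfl | rfl)
    exacts [ha, mem_sup_left (mem_zpowers _)]))
  haveI := PGroup.isCyclic_of_sup_frattini h
  exact hm isMetacyclic_of_isCyclic

theorem mem_M_iff (hX : IsPGroup 2 X) (hm : ¬ Cfsg.IsMetacyclic X) {t : X} (ht : t ∈ T d) (k : ℤ) :
    t * d.a ^ k ∈ M d ↔ Even k := by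
  rw [mul_mem_cancel_left (T_le_M d hX ht)]
  refine ⟨fun h => ?_, fun h => mem_sup_right (zpow_even_mem_frattini hX _ h)⟩
  by_contra hc
  obtain ⟨j, rfl⟩ := Int.not_even_iff_odd.1 hc
  rw [zpow_add_one] at h
  exact a_notMem_M d hm
    ((mul_mem_cancel_left (mem_sup_right (zpow_even_mem_frattini hX _ (even_two_mul j)))).1 h)

theorem M_ne_top (hm : ¬ Cfsg.IsMetacyclic X) : M d ≠ ⊤ := fun h => a_notMem_M d hm (h ▸ mem_top _)

theorem mul_mem_M (hX : IsPGroup 2 X) (hm : ¬ Cfsg.IsMetacyclic X) {x y : X} (hx : x ∉ M d)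
    (hy : y ∉ M d) : x * y ∈ M d := by
  obtain ⟨t, ht, k, rfl⟩ := repr d x
  obtain ⟨t', ht', k', rfl⟩ := repr d y
  rw [mem_M_iff d hX hm ht, Int.not_even_iff_odd] at hx
  rw [mem_M_iff d hX hm ht', Int.not_even_iff_odd] at hy
  obtain ⟨s, hs, e1⟩ := mul_repr d ht ht' k k'
  rw [e1, mem_M_iff d hX hm hs]
  exact hx.add_odd hy

theorem M_normal (hX : IsPGroup 2 X) (hm : ¬ Cfsg.IsMetacyclic X) {x : X} (g : X) :
    g * x * g⁻¹ ∈ M d ↔ x ∈ M d := by
  have key : ∀ {x : X} (g : X), x ∈ M d → g * x * g⁻¹ ∈ M d := by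
    intro x g hx
    by_cases hg : g ∈ M d
    · exact mul_mem (mul_mem hg hx) (inv_mem hg)
    · exact mul_mem_M d hX hm (fun h => hg (by simpa using mul_mem h (inv_mem hx)))
        (fun h => hg (inv_mem_iff.1 h))
  exact ⟨fun h => by simpa [mul_assoc] using key g⁻¹ h, key g⟩

section Good

variable {d₀ : SData X n r 0 ρ l}

theorem mul_pow_a (i : ℤ) (N : ℕ) :
    (d₀.c ^ i * d₀.a) ^ N = d₀.c ^ (i * geom ρ N) * d₀.a ^ N := by
  induction N with
  | zero => simp [geom]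
  | succ N ih =>
    have h1 : d₀.a * d₀.c ^ (i * geom ρ N) = d₀.c ^ (ρ * (i * geom ρ N)) * d₀.a := by
      rw [← mul_inv_eq_iff_eq_mul, ← conj_zpow, d₀.conj_c, ← zpow_mul]
    rw [pow_succ', ih, pow_succ' d₀.a, mul_assoc (d₀.c ^ i) d₀.a, ← mul_assoc d₀.a, h1, mul_assoc,
      ← mul_assoc (d₀.c ^ i), ← zpow_add, geom_succ]
    congr 2
    ring

theorem conj_cb_a (j : ℤ) :
    d₀.a * (d₀.c ^ j * d₀.b) * d₀.a⁻¹ = d₀.c ^ (ρ * j + 1) * d₀.b := by
  rw [show d₀.a * (d₀.c ^ j * d₀.b) * d₀.a⁻¹ = d₀.a * d₀.c ^ j * d₀.a⁻¹ * (d₀.a * d₀.b * d₀.a⁻¹) by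
    group, ← conj_zpow, d₀.conj_c, ← zpow_mul, d₀.conj_b, ← mul_assoc, zpow_add_one]

/-- Conjugation by an element of `T` times `a` changes the parity of the exponent. -/
theorem conj_cb (hρ : Odd ρ) {t : X} (ht : t ∈ T d₀) (j : ℤ) :
    ∃ j' : ℤ, Odd (j' - j) ∧
      t * d₀.a * (d₀.c ^ j * d₀.b) * (t * d₀.a)⁻¹ = d₀.c ^ j' * d₀.b := by
  obtain ⟨q, rfl⟩ := hρ
  have e0 : t * d₀.a * (d₀.c ^ j * d₀.b) * (t * d₀.a)⁻¹ =
      t * (d₀.a * (d₀.c ^ j * d₀.b) * d₀.a⁻¹) * t⁻¹ := by group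
  rw [e0, conj_cb_a]
  set m := (2 * q + 1) * j + 1 with hm
  obtain ⟨i, rfl | rfl⟩ := d₀.rel.cases ht
  · refine ⟨i + m + i, ⟨q * j + i, by rw [hm]; ring⟩, ?_⟩
    rw [← zpow_neg, ← mul_assoc, ← zpow_add, mul_assoc, d₀.rel.swap, neg_neg, ← mul_assoc, ← zpow_add]
  · refine ⟨i + i - m, ⟨i - j - q * j - 1, by rw [hm]; ring⟩, ?_⟩
    have hb : d₀.b⁻¹ = d₀.b := inv_eq_of_mul_eq_one_right (by rw [d₀.rel.sq, zpow_zero])
    rw [mul_inv_rev, hb, ← zpow_neg,
      show d₀.c ^ i * d₀.b * (d₀.c ^ m * d₀.b) * (d₀.b * d₀.c ^ (-i)) =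
        d₀.c ^ i * (d₀.b * d₀.c ^ m) * (d₀.b * d₀.b) * d₀.c ^ (-i) by group,
      d₀.rel.swap, d₀.rel.sq, zpow_zero, mul_one, ← mul_assoc, ← zpow_add, mul_assoc, d₀.rel.swap,
      neg_neg, ← mul_assoc, ← zpow_add]
    congr 2
    ring

theorem quaternion_pow_four : ∀ x : QuaternionGroup 2, x ^ 4 = 1 := by decide

theorem quaternion_involution :
    ∀ x y : QuaternionGroup 2, x * x = 1 → y * y = 1 → x ≠ 1 → y ≠ 1 → x = y := by decide

theorem quaternion_not_comm : ¬ ∀ x y : QuaternionGroup 2, x * y = y * x := by decide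

/-- In the good case a proper subgroup outside `M` has only 2-automorphisms. -/
theorem isPGroup_mulAut_of_not_le (hX : IsPGroup 2 X) (hm : ¬ Cfsg.IsMetacyclic X) (hn : 1 ≤ n)
    (h4 : (4 : ℤ) ∣ ρ - 1) (hgood : geom ρ (2 ^ r) ≡ 4 * l [ZMOD 2 ^ (n + 1)]) {R : Subgroup X}
    (hR : R ≠ ⊤) (hRM : ¬ R ≤ M d₀) : IsPGroup 2 (MulAut ↥R) := by
  haveI : Fact (Nat.Prime 2) := ⟨Nat.prime_two⟩
  have hr2 := good_two_le hn h4 hgood
  have hρ := odd_of_four_dvd h4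
  obtain ⟨x, hxR, hxM⟩ := SetLike.not_le_iff_exists.1 hRM
  obtain ⟨t, ht, k, rfl⟩ := repr d₀ x
  rw [mem_M_iff d₀ hX hm ht, Int.not_even_iff_odd] at hxM
  -- an element `g = t a` of `R`
  obtain ⟨t, ht, hgR⟩ : ∃ t' ∈ T d₀, t' * d₀.a ∈ R := by
    obtain ⟨m, hk⟩ := hxM
    obtain ⟨A, B, hAB⟩ : IsCoprime ((2 : ℤ) ^ r) k :=
      IsCoprime.pow_left ⟨-m, 1, by rw [hk]; ring⟩
    obtain ⟨s, hs, e1⟩ := zpow_repr d₀ ht k B
    refine ⟨s * d₀.a ^ (-((2 : ℤ) ^ r * A)), mul_mem hs (apow_mem d₀ (dvd_neg.2 (dvd_mul_right _ _))), ?_⟩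
    have h1 : k * B = -((2 : ℤ) ^ r * A) + 1 := by linarith
    rw [h1, zpow_add, zpow_one, ← mul_assoc] at e1
    exact e1 ▸ zpow_mem hxR B
  set g := t * d₀.a with hg
  -- `R ∩ T` lies in `⟨c⟩`
  have hc : ∀ x ∈ R, x ∈ T d₀ → x ∈ zpowers d₀.c := by
    intro x hx hxT
    obtain ⟨j, rfl | rfl⟩ := d₀.rel.cases hxT
    · exact zpow_mem (mem_zpowers _) _
    exfalso
    obtain ⟨j', hj', e1⟩ := conj_cb hρ ht j
    have h1 : d₀.c ^ j' * d₀.b ∈ R := e1 ▸ mul_mem (mul_mem hgR hx) (inv_mem hgR)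
    have h2 : d₀.c ^ (j' - j) ∈ R := by
      have e2 : d₀.c ^ j' * d₀.b * (d₀.c ^ j * d₀.b) = d₀.c ^ (j' - j) := by
        rw [mul_assoc, ← mul_assoc d₀.b, d₀.rel.swap, mul_assoc _ d₀.b d₀.b, d₀.rel.sq, zpow_zero,
          mul_one, ← zpow_add, sub_eq_add_neg]
      exact e2 ▸ mul_mem h1 hx
    have hcR : d₀.c ∈ R := by
      obtain ⟨m, hm'⟩ := hj'
      obtain ⟨A, B, hAB⟩ : IsCoprime ((2 : ℤ) ^ n) (j' - j) :=
        IsCoprime.pow_left ⟨-m, 1, by rw [hm']; ring⟩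
      have e3 : d₀.c = (d₀.c ^ (j' - j)) ^ B := by
        rw [← zpow_mul]
        nth_rw 1 [← zpow_one d₀.c]
        rw [zpow_eq_zpow_iff_modEq, d₀.rel.ord, Int.modEq_iff_dvd]
        exact ⟨-A, by push_cast; linarith⟩
      rw [e3]
      exact zpow_mem h2 _
    have hbR : d₀.b ∈ R := (mul_mem_cancel_left (zpow_mem hcR j)).1 hx
    have hTR : T d₀ ≤ R := (closure_le _).2 (by rintro y (rfl | rfl) <;> assumption)
    refine hR (eq_top_iff.2 (d₀.gen ▸ (closure_le _).2 ?_))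
    rintro y (rfl | rfl)
    exacts [(mul_mem_cancel_left (hTR ht)).1 hgR, hbR]
  -- every element of `R` is a power of `g` times an element of `R ∩ T`
  have hpow : ∀ m : ℤ, g ^ m ∈ T d₀ ↔ (2 : ℤ) ^ r ∣ m := fun m => by
    obtain ⟨s, hs, e1⟩ := zpow_repr d₀ ht 1 m
    rw [zpow_one, one_mul] at e1
    rw [e1]
    exact mul_mem_T_iff d₀ hs m
  have hdec : ∀ x ∈ R, ∃ m : ℤ, x * (g ^ m)⁻¹ ∈ T d₀ := fun x _ => by
    obtain ⟨s, hs, m, rfl⟩ := repr d₀ x
    obtain ⟨s', hs', e1⟩ := zpow_repr d₀ ht 1 m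
    rw [zpow_one, one_mul] at e1
    exact ⟨m, by rw [e1, show s * d₀.a ^ m * (s' * d₀.a ^ m)⁻¹ = s * s'⁻¹ by group]; exact mul_mem hs (inv_mem hs')⟩
  set N : Subgroup ↥R := (T d₀).subgroupOf R with hN
  haveI : IsCyclic N := by
    let f : N →* ↥(zpowers d₀.c) :=
      { toFun := fun x => ⟨((x : ↥R) : X), hc _ (x : ↥R).2 x.2⟩
        map_one' := rfl
        map_mul' := fun _ _ => rfl }
    exact isCyclic_of_injective f fun x y h =>
      Subtype.ext (Subtype.ext (congrArg (fun w : ↥(zpowers d₀.c) => (w : X)) h))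
  haveI : N.Normal := normal_subgroupOf
  have hmeta : Cfsg.IsMetacyclic ↥R := by
    refine ⟨N, inferInstance, inferInstance, ⟨((⟨g, hgR⟩ : ↥R) : ↥R ⧸ N), fun z => ?_⟩⟩
    obtain ⟨x, rfl⟩ := QuotientGroup.mk_surjective z
    obtain ⟨m, hm'⟩ := hdec x x.2
    refine ⟨m, ?_⟩
    show ((⟨g, hgR⟩ : ↥R) : ↥R ⧸ N) ^ m = x
    rw [← QuotientGroup.mk_zpow, QuotientGroup.eq, hN, mem_subgroupOf]
    have e1 : (g ^ m)⁻¹ * (x : X) = (g ^ m)⁻¹ * ((x : X) * (g ^ m)⁻¹) * (g ^ m)⁻¹⁻¹ := by group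
    simp only [Subgroup.coe_mul, Subgroup.coe_inv, Subgroup.coe_zpow]
    rw [e1]
    exact (T_normal d₀).conj_mem _ hm' _
  by_contra hA
  have hr1 : ∀ m : ℕ, g ^ (2 ^ m) = 1 → r ≤ m := fun m h => by
    have h' := (hpow ((2 ^ m : ℕ) : ℤ)).1 (by rw [zpow_natCast, h]; exact one_mem _)
    push_cast at h'
    exact (Nat.pow_dvd_pow_iff_le_right (by norm_num : 1 < 2)).1 (by exact_mod_cast h')
  rcases S1896.result (hX.to_subgroup R) hmeta hA with ⟨⟨φ⟩⟩ | ⟨m, ⟨φ⟩⟩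
  · have hg4 : g ^ 4 = 1 := by
      have := φ.symm_apply_apply ((⟨g, hgR⟩ : ↥R) ^ 4)
      rw [map_pow, quaternion_pow_four, map_one] at this
      exact congrArg Subtype.val this.symm
    obtain rfl : r = 2 := le_antisymm (hr1 2 hg4) hr2
    have hg2 : g ^ 2 ∉ T d₀ := fun h => by
      have := (hpow 2).1 (by rw [zpow_ofNat]; exact h)
      norm_num at this
    refine quaternion_not_comm fun x y => ?_
    by_cases hbot : ∀ u : ↥R, u ∈ N → u = 1
    · have hgen : ∀ u : ↥R, ∃ j : ℤ, u = (⟨g, hgR⟩ : ↥R) ^ j := fun u => by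
        obtain ⟨j, hj⟩ := hdec u u.2
        refine ⟨j, ?_⟩
        have := hbot (u * ((⟨g, hgR⟩ : ↥R) ^ j)⁻¹) (by
          rw [hN, mem_subgroupOf]; simpa using hj)
        exact mul_inv_eq_one.1 this
      obtain ⟨i, hi⟩ := hgen (φ.symm x)
      obtain ⟨j, hj⟩ := hgen (φ.symm y)
      apply φ.symm.injective
      rw [map_mul, map_mul, hi, hj, ← zpow_add, ← zpow_add, add_comm]
    exfalso
    push Not at hbot
    obtain ⟨u, huN, hu1⟩ := hbot
    -- an involution of `N`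
    obtain ⟨v, hvN, hv2, hv1⟩ : ∃ v ∈ N, v * v = 1 ∧ v ≠ 1 := by
      by_cases h2 : u * u = 1
      · exact ⟨u, huN, h2, hu1⟩
      · refine ⟨u * u, mul_mem huN huN, φ.injective ?_, h2⟩
        rw [map_mul, map_mul, map_one]
        simpa [pow_succ, mul_assoc] using quaternion_pow_four (φ u)
    set g' : ↥R := (⟨g, hgR⟩ : ↥R) ^ 2 with hg'
    have e : φ g' = φ v := by
      refine quaternion_involution _ _ ?_ (by rw [← map_mul, hv2, map_one]) (fun h => ?_) (fun h => ?_)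
      · rw [hg', map_pow, ← pow_two, ← pow_mul]; exact quaternion_pow_four _
      · have := φ.injective (h.trans (map_one φ).symm)
        exact hg2 (by
          have := congrArg Subtype.val this
          simp only [hg', SubmonoidClass.coe_pow] at this
          rw [this]; exact one_mem _)
      · exact hv1 (φ.injective (h.trans (map_one φ).symm))
    exact hg2 (by
      have := congrArg Subtype.val (φ.injective e)
      simp only [hg', SubmonoidClass.coe_pow] at this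
      rw [this]; exact hvN)
  · -- the homocyclic case
    have hexp : ∀ u : ↥R, u ^ (2 ^ m) = 1 := fun u => φ.injective (by
      rw [map_pow, map_one]
      refine Prod.ext ?_ ?_ <;>
      · simp only [Prod.pow_fst, Prod.pow_snd, Prod.fst_one, Prod.snd_one]
        exact orderOf_dvd_iff_pow_eq_one.1 ((_root_.orderOf_dvd_natCard _).trans (by simp)))
    have hrm : r ≤ m := hr1 m (congrArg Subtype.val (hexp ⟨g, hgR⟩))
    obtain ⟨u, hu⟩ := IsCyclic.exists_ofOrder_eq_natCard (α := N)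
    have hNle : Nat.card N ≤ 2 ^ m := by
      rw [← hu]
      refine Nat.le_of_dvd (by positivity) (orderOf_dvd_of_pow_eq_one ?_)
      exact Subtype.ext (by rw [SubmonoidClass.coe_pow]; exact hexp _)
    have hcard : Nat.card ↥R ≤ Nat.card N * 2 ^ r := by
      have hs : Function.Surjective
          (fun p : N × Fin (2 ^ r) => (p.1 : ↥R) * (⟨g, hgR⟩ : ↥R) ^ (p.2 : ℕ)) := by
        intro x
        obtain ⟨j, hj⟩ := hdec x x.2
        have hpos : (0 : ℤ) < 2 ^ r := by positivity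
        obtain ⟨j₀, hj₀⟩ := Int.eq_ofNat_of_zero_le (Int.emod_nonneg j hpos.ne')
        have hlt : j₀ < 2 ^ r := by
          have := Int.emod_lt_of_pos j hpos
          rw [hj₀] at this
          exact_mod_cast this
        refine ⟨⟨⟨x * ((⟨g, hgR⟩ : ↥R) ^ j₀)⁻¹, ?_⟩, ⟨j₀, hlt⟩⟩, by simp⟩
        rw [hN, mem_subgroupOf]
        simp only [Subgroup.coe_mul, Subgroup.coe_inv, SubmonoidClass.coe_pow]
        have e1 : (x : X) * (g ^ j₀)⁻¹ = (x : X) * (g ^ j)⁻¹ * g ^ (j - (j₀ : ℤ)) := by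
          rw [zpow_sub, zpow_natCast]; group
        rw [e1]
        exact mul_mem hj ((hpow _).2 ⟨j / 2 ^ r, by rw [← hj₀]; linarith [Int.emod_add_mul_ediv j (2 ^ r)]⟩)
      refine (Nat.card_le_card_of_surjective _ hs).trans_eq ?_
      rw [Nat.card_prod, Nat.card_fin]
    have hRc : Nat.card ↥R = 2 ^ m * 2 ^ m := by
      rw [Nat.card_congr φ.toEquiv, Nat.card_prod, Nat.card_congr Multiplicative.toAdd, Nat.card_zmod]
    have hrm' : r = m := by
      refine le_antisymm hrm ((Nat.pow_le_pow_iff_right (by norm_num : 1 < 2)).1 ?_)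
      refine Nat.le_of_mul_le_mul_left ?_ (show 0 < 2 ^ m by positivity)
      rw [← hRc]
      exact hcard.trans (Nat.mul_le_mul_right _ hNle)
    subst hrm'
    have hNge : 2 ^ r ≤ Nat.card N := by
      refine Nat.le_of_mul_le_mul_right ?_ (show 0 < 2 ^ r by positivity)
      rw [← hRc]
      exact hcard
    obtain ⟨j, hj⟩ := mem_zpowers_iff.1 (hc _ (u : ↥R).2 u.2)
    have hju : orderOf (d₀.c ^ j) = 2 ^ r := by
      rw [hj, Subgroup.orderOf_coe, Subgroup.orderOf_coe, hu]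
      exact le_antisymm hNle hNge
    have hrn : r ≤ n := by
      refine (Nat.pow_dvd_pow_iff_le_right (by norm_num : 1 < 2)).1 ?_
      rw [← hju, ← d₀.rel.ord]
      exact orderOf_dvd_of_mem_zpowers (zpow_mem (mem_zpowers _) _)
    have hcomm : g * d₀.c ^ j * g⁻¹ = d₀.c ^ j := by
      have h : (⟨g, hgR⟩ : ↥R) * (u : ↥R) = (u : ↥R) * ⟨g, hgR⟩ :=
        φ.injective (by rw [map_mul, map_mul, mul_comm])
      rw [hj, mul_inv_eq_iff_eq_mul]
      exact congrArg Subtype.val h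
    obtain ⟨i, rfl | rfl⟩ := d₀.rel.cases ht
    · -- `g = c ^ i a` would have order `2 ^ r`
      have h1 : g ^ (2 ^ r) = 1 := congrArg Subtype.val (hexp ⟨g, hgR⟩)
      rw [hg, mul_pow_a, d₀.a_pow, ← zpow_add, ← orderOf_dvd_iff_zpow_eq_one, d₀.rel.ord] at h1
      push_cast at h1
      obtain ⟨v, ⟨w, rfl⟩, hv⟩ := geom_two_pow h4 r
      rw [hv] at h1
      have h2 : (2 : ℤ) ^ r ∣ 2 * l := by
        have := (pow_dvd_pow (2 : ℤ) hrn).trans h1
        rwa [dvd_add_right ((dvd_mul_right _ _).mul_left i)] at this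
      obtain ⟨q, hq⟩ := h2
      have h3 : (2 : ℤ) ^ (r + 1) ∣ 4 * l - 2 ^ r * (2 * w + 1) :=
        hv ▸ (pow_dvd_pow (2 : ℤ) (by omega)).trans (Int.modEq_iff_dvd.1 hgood)
      rw [show 4 * l = 2 ^ r * (2 * q) by linear_combination 2 * hq, ← mul_sub, pow_succ,
        mul_dvd_mul_iff_left (by positivity)] at h3
      omega
    · -- `g = c ^ i b a` inverts too much
      rw [show g * d₀.c ^ j * g⁻¹ =
          d₀.c ^ i * (d₀.b * (d₀.a * d₀.c ^ j * d₀.a⁻¹) * d₀.b⁻¹) * (d₀.c ^ i)⁻¹ by rw [hg]; group,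
        ← conj_zpow, d₀.conj_c, ← zpow_mul, ← conj_zpow, d₀.rel.inv, inv_zpow, ← zpow_neg, ← zpow_neg,
        ← zpow_add, ← zpow_add, show i + -(ρ * j) + -i = -(ρ * j) by ring, zpow_eq_zpow_iff_modEq,
        d₀.rel.ord, Int.modEq_iff_dvd] at hcomm
      push_cast at hcomm
      obtain ⟨k', hk'⟩ := h4
      have h1 : (2 : ℤ) ^ n ∣ j * 2 := by
        refine (IsCoprime.pow_left (⟨-k', 1, by ring⟩ : IsCoprime (2 : ℤ) (2 * k' + 1))).dvd_of_dvd_mul_right
          (show (2 : ℤ) ^ n ∣ j * 2 * (2 * k' + 1) from ?_)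
        obtain ⟨q, hq⟩ := hcomm
        exact ⟨q, by linear_combination hq - j * hk'⟩
      have h2 : orderOf (d₀.c ^ j) ∣ 2 := by
        refine orderOf_dvd_of_pow_eq_one ?_
        rw [← zpow_natCast, ← zpow_mul, ← orderOf_dvd_iff_zpow_eq_one, d₀.rel.ord]
        exact_mod_cast h1
      rw [hju] at h2
      have h3 := (Nat.pow_dvd_pow_iff_le_right (by norm_num : 1 < 2)).1 (h2.trans (by norm_num : 2 ∣ 2 ^ 1))
      omega

end Good

end Cfsg.Agent.BicyclicSimple
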