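import Cfsg.Agent.EqLemmas
import Cfsg.Agent.Lib.BicyclicSimple.SData
import Cfsg.Agent.Lib.BicyclicFusion.Bridge
import Cfsg.Agent.Lib.Fusion.Group
import Cfsg.Agent.Lib.GWReduce.Basic
import Cfsg.Agent.Lib.Transfer.Centric
import Cfsg.Agent.Lib.Transfer.Focal

/-!
# A perfect group with bicyclic Sylow 2-subgroups has 2-rank at most two (owner: helper56)

* `odd_of_nonCyclicDerived` : noncyclic derived group of a non-metacyclic bicyclic Sylow
  2-subgroup forces odd order;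
* `not_good` : the data with `b ^ 2 = 1` and good sum gives a subgroup of index two;
* `prankLE_two` : 2-rank at most two.
-/

set_option autoImplicit false
set_option linter.style.haveILetI false

namespace Cfsg.Agent.BicyclicSimple

open Subgroup BicyclicFusion BicyclicFusion.Realize
open scoped commutatorElement

variable {G : Type*} [Group G] [Finite G]

theorem odd_of_nonCyclicDerived [Group.IsPerfect G] (S : Sylow 2 G)
    (hy : Hyp ↥(S : Subgroup G)) : Odd (Nat.card G) := by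
  haveI : Fact (Nat.Prime 2) := ⟨Nat.prime_two⟩
  refine GWReduce.odd_of_isPerfect_of_local S fun R hR y hy' hco => ?_
  have hF := eq_inner_of_not_cyclic hy (Fusion.isSaturated_group (T := S))
  have hmem : (MulAut.conj y).toMonoidHom.comp R.subtype ∈
      (Cfsg.groupFusionSystem (S : Subgroup G)).Hom R :=
    ⟨hR, fun x => hR ((mem_normalizer_iff.1 hy' x).1 x.2), y, fun _ => rfl⟩
  rw [hF] at hmem
  obtain ⟨-, s, hs, hsx⟩ := hmem
  have key : ∀ x ∈ R, y * x * y⁻¹ = s * x * s⁻¹ := fun x hx => hsx ⟨x, hx⟩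
  have hiter : ∀ (k : ℕ), ∀ x ∈ R, y ^ k * x * (y ^ k)⁻¹ = s ^ k * x * (s ^ k)⁻¹ ∧
      y ^ k * x * (y ^ k)⁻¹ ∈ R := by
    intro k
    induction k with
    | zero => intro x hx; simpa using hx
    | succ k ih =>
      intro x hx
      obtain ⟨h1, h2⟩ := ih x hx
      have e : y ^ (k + 1) * x * (y ^ (k + 1))⁻¹ = y * (y ^ k * x * (y ^ k)⁻¹) * y⁻¹ := by
        rw [pow_succ']; group
      refine ⟨?_, e ▸ (mem_normalizer_iff.1 hy' _).1 h2⟩
      rw [e, key _ h2, h1, pow_succ' s]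
      group
  refine mem_centralizer_iff.2 fun x hx => ?_
  obtain ⟨j, hj⟩ := IsPGroup.iff_orderOf.1 S.isPGroup' ⟨s, hs⟩
  rw [Subgroup.orderOf_mk] at hj
  have hyj : y ^ (2 ^ j) * x = x * y ^ (2 ^ j) := by
    have := (hiter (2 ^ j) x hx).1
    rw [← hj, pow_orderOf_eq_one, one_mul, inv_one, mul_one, mul_inv_eq_iff_eq_mul] at this
    rwa [← hj]
  obtain ⟨m, hm⟩ := exists_pow_eq_self_of_coprime ((hco.pow_right j).symm)
  exact (hm ▸ Commute.pow_left hyj m : Commute y x).eq.symm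

theorem not_good [Group.IsPerfect G] (S : Sylow 2 G) (hm : ¬ Cfsg.IsMetacyclic ↥(S : Subgroup G))
    (hS2 : IsPGroup 2 (MulAut ↥(S : Subgroup G))) {n r : ℕ} {ρ l : ℤ}
    (d : SData ↥(S : Subgroup G) n r 0 ρ l) (hn : 1 ≤ n) (h4 : (4 : ℤ) ∣ ρ - 1)
    (hgood : geom ρ (2 ^ r) ≡ 4 * l [ZMOD 2 ^ (n + 1)]) : False := by
  haveI : Fact (Nat.Prime 2) := ⟨Nat.prime_two⟩
  have hX : IsPGroup 2 ↥(S : Subgroup G) := S.isPGroup'
  let f : G → Prop := fun q => ∃ h : q ∈ (S : Subgroup G), (⟨q, h⟩ : ↥(S : Subgroup G)) ∈ M d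
  have hfS : ∀ (q : G) (h : q ∈ (S : Subgroup G)), f q ↔ (⟨q, h⟩ : ↥(S : Subgroup G)) ∈ M d :=
    fun q h => ⟨fun ⟨_, h'⟩ => h', fun h' => ⟨h, h'⟩⟩
  have hinv : ∀ q g : G, q ∈ (S : Subgroup G) → g * q * g⁻¹ ∈ (S : Subgroup G) →
      f (g * q * g⁻¹) = f q := by
    intro q g hq hgq
    refine Transfer.fusion_invariant_fun S f (fun u hu q hq => propext ?_) (fun R hR y hy hco q hq => ?_)
      hq hgq
    · rw [hfS _ (mul_mem (mul_mem hu hq) (inv_mem hu)), hfS _ hq]
      exact M_normal d hX hm (x := ⟨q, hq⟩) ⟨u, hu⟩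
    · have hRS := hR.1
      set R' := R.subgroupOf (S : Subgroup G) with hR'
      by_cases hle : R' ≤ M d
      · refine propext ?_
        rw [hfS _ (hRS ((mem_normalizer_iff.1 hy q).1 hq)), hfS _ (hRS hq)]
        exact iff_of_true (hle (mem_subgroupOf.2 ((mem_normalizer_iff.1 hy q).1 hq)))
          (hle (mem_subgroupOf.2 hq))
      · have hA : IsPGroup 2 (MulAut ↥R') := by
          by_cases htop : R' = ⊤
          · exact hS2.of_equiv (MulAut.congr ((MulEquiv.subgroupCongr htop).trans topEquiv).symm)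
          · exact isPGroup_mulAut_of_not_le hX hm hn h4 hgood htop hle
        have hA' : IsPGroup 2 (MulAut ↥R) := hA.of_equiv (MulAut.congr (subgroupOfEquivOfLe hRS))
        have h1 : R.normalizerMonoidHom ⟨y, hy⟩ = 1 :=
          Transfer.map_eq_one_of_coprime hA' R.normalizerMonoidHom (by rwa [Subgroup.orderOf_mk])
        have h2 : y ∈ centralizer (R : Set G) := by
          have h3 : (⟨y, hy⟩ : normalizer (R : Set G)) ∈ R.normalizerMonoidHom.ker := h1
          rwa [normalizerMonoidHom_ker, mem_subgroupOf] at h3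
        rw [show y * q * y⁻¹ = q by rw [← mem_centralizer_iff.1 h2 q hq, mul_inv_cancel_right]]
  have hle : (S : Subgroup G) ≤ (M d).map (S : Subgroup G).subtype := by
    refine le_trans (le_inf (le_top.trans (Group.IsPerfect.commutator_eq_top (G := G)).ge) le_rfl :
      (S : Subgroup G) ≤ commutator G ⊓ (S : Subgroup G)) ?_
    rw [← Transfer.focalSubgroup_eq_of_coprime _ (Transfer.coprime_index_relIndex_sylow S),
      Subgroup.focalSubgroup_def, closure_le]
    rintro _ ⟨hgS, a, ha, u, rfl⟩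
    set b := u * a⁻¹ * u⁻¹ with hb
    have hbS : b ∈ (S : Subgroup G) := by
      have := mul_mem (inv_mem ha) hgS
      simpa [hb, commutatorElement_def, mul_assoc] using this
    refine ⟨⟨a, ha⟩ * ⟨b, hbS⟩, ?_, by simp [hb, commutatorElement_def, mul_assoc]⟩
    have hiff : (⟨b, hbS⟩ : ↥(S : Subgroup G)) ∈ M d ↔ (⟨a, ha⟩ : ↥(S : Subgroup G)) ∈ M d := by
      rw [← hfS b hbS, hb, hinv a⁻¹ u (inv_mem ha) hbS, hfS a⁻¹ (inv_mem ha)]
      exact inv_mem_iff (x := (⟨a, ha⟩ : ↥(S : Subgroup G)))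
    by_cases haM : (⟨a, ha⟩ : ↥(S : Subgroup G)) ∈ M d
    · exact mul_mem haM (hiff.2 haM)
    · exact mul_mem_M d hX hm haM (mt hiff.1 haM)
  refine M_ne_top d hm (eq_top_iff.2 fun x _ => ?_)
  obtain ⟨z, hz, e⟩ := hle x.2
  exact Subtype.ext e ▸ hz

/-- In a Sylow 2-subgroup elementary abelian subgroups have order at most four. -/
theorem card_le_four_sylow [Group.IsPerfect G] (h2 : 2 ∣ Nat.card G) (S : Sylow 2 G)
    (hb : ∃ x y : ↥(S : Subgroup G), ∀ g : ↥(S : Subgroup G), ∃ i j : ℤ, g = x ^ i * y ^ j)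
    (A : Subgroup ↥(S : Subgroup G)) (hA : ∀ a ∈ A, a ^ 2 = 1) : Nat.card A ≤ 4 := by
  haveI : Fact (Nat.Prime 2) := ⟨Nat.prime_two⟩
  have hX : IsPGroup 2 ↥(S : Subgroup G) := S.isPGroup'
  by_cases hm : Cfsg.IsMetacyclic ↥(S : Subgroup G)
  · exact RankTwo.card_le_sq_of_exponent (p := 2)
      (RankTwo.isMetacyclic_of_injective A.subtype Subtype.val_injective hm)
      fun x => Subtype.ext (by simpa using hA x x.2)
  obtain ⟨x, y, hxy⟩ := hb
  obtain ⟨B⟩ := exists_basis hX hxy hm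
  by_cases hcyc : IsCyclic ↥(_root_.commutator ↥(S : Subgroup G))
  · obtain ⟨n, r, e, ρ, l, hn, h4, ⟨d⟩, ⟨hn2, he⟩ | ⟨rfl, hgood⟩⟩ := exists_sData hX B hcyc
    · exact card_le_four d hn2 he A hA
    · exact (not_good S hm (B.isPGroup_mulAut hX) d hn h4 hgood).elim
  · exact absurd (even_iff_two_dvd.2 h2) (Nat.not_even_iff_odd.2
      (odd_of_nonCyclicDerived S ⟨hX, ⟨B⟩, commutator_comm hxy, hcyc⟩))

/-- A perfect group of even order with bicyclic Sylow 2-subgroups has 2-rank at most two. -/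
theorem prankLE_two [Group.IsPerfect G] (h2 : 2 ∣ Nat.card G) (S : Sylow 2 G)
    (hb : ∃ x y : ↥(S : Subgroup G), ∀ g : ↥(S : Subgroup G), ∃ i j : ℤ, g = x ^ i * y ^ j) :
    Cfsg.PRankLE 2 2 G := by
  haveI : Fact (Nat.Prime 2) := ⟨Nat.prime_two⟩
  intro A _ hA
  obtain ⟨R, hR⟩ := (show IsPGroup 2 A from fun a => ⟨1, Subtype.ext (by
    rw [pow_one, SubmonoidClass.coe_pow]; exact hA a a.2)⟩).exists_le_sylow
  obtain ⟨g, hg⟩ := MulAction.exists_smul_eq G R S
  have hle : A.map (MulAut.conj g).toMonoidHom ≤ (S : Subgroup G) := by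
    rw [← hg]; exact Subgroup.map_mono hR
  rw [← card_map_of_injective (f := (MulAut.conj g).toMonoidHom) (MulEquiv.injective _),
    ← Nat.card_congr (subgroupOfEquivOfLe hle).toEquiv]
  refine card_le_four_sylow h2 S hb _ fun x hx => ?_
  obtain ⟨a, ha, e⟩ := mem_subgroupOf.1 hx
  apply Subtype.ext
  rw [SubmonoidClass.coe_pow, ← e, ← map_pow, hA a ha, map_one]
  rfl

end Cfsg.Agent.BicyclicSimple
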