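import Cfsg.Agent.EqLemmas
import Cfsg.Agent.Lib.BicyclicSimple.Rank
import Cfsg.Agent.S0516
import Cfsg.Agent.Lib.GWDihedral.Main
import Cfsg.Agent.Lib.UFourSylow.Basic
import Cfsg.Agent.Lib.InvolCountFour.RankTwo
import Mathlib.FieldTheory.Finite.GaloisField

/-!
# Simple groups with bicyclic Sylow 2-subgroups (owner: helper56)

Statement S3290 follows from the classifications with semidihedral (S0507) and wreathed (S0523)
Sylow 2-subgroups.
-/

set_option autoImplicit false
set_option linter.style.haveILetI false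

open Cfsg

namespace Cfsg.Agent.BicyclicSimple

universe u

/-- A group with the shape of the Sylow 2-subgroup of `PSU 3 F 4` is not bicyclic. -/
theorem not_bicyclic_of_shape {T : Type u} [Group T] [Finite T] (hT : TwoNilCent.Shape T) :
    ¬ ∃ x y : T, ∀ g : T, ∃ i j : ℤ, g = x ^ i * y ^ j := by
  rintro ⟨x, y, h⟩
  have hexp : ∀ z : T, z ^ ((4 : ℕ) : ℤ) = 1 := fun z => by
    rw [zpow_natCast, show (4 : ℕ) = 2 * 2 by rfl, pow_mul, pow_two (z ^ 2), pow_two]
    exact (hT.inv_iff _).2 (hT.sq_center z)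
  have hs : Function.Surjective (fun p : Fin 4 × Fin 4 => x ^ (p.1 : ℕ) * y ^ (p.2 : ℕ)) := by
    have hred : ∀ (z : T) (i : ℤ), ∃ k : Fin 4, z ^ i = z ^ (k : ℕ) := fun z i => by
      refine ⟨⟨(i % 4).toNat, by omega⟩, ?_⟩
      rw [← zpow_natCast, show (((i % 4).toNat : ℕ) : ℤ) = i % 4 by omega]
      nth_rw 1 [← Int.emod_add_mul_ediv i 4]
      rw [zpow_add, zpow_mul, show ((4 : ℤ)) = ((4 : ℕ) : ℤ) by rfl, hexp, one_zpow, mul_one]
    intro g
    obtain ⟨i, j, rfl⟩ := h g
    obtain ⟨k, hk⟩ := hred x i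
    obtain ⟨k', hk'⟩ := hred y j
    exact ⟨(k, k'), by simp only [hk, hk']⟩
  have := Nat.card_le_card_of_surjective _ hs
  rw [hT.card] at this
  simp at this

/-- Statement S3290 from the semidihedral and wreathed classifications. -/
theorem result_of {G : Type u} [Group G] [Finite G] [IsSimpleGroup G] (P : Sylow 2 G)
    (hb : ∃ x y : ↥(P : Subgroup G), ∀ g : ↥(P : Subgroup G), ∃ i j : ℤ, g = x ^ i * y ^ j)
    (h2 : 2 ∣ Nat.card G) (hQD : InvolCountFour.SemidihedralClass.{u})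
    (hWR : InvolCountFour.WreathedClass.{u}) :
    Nat.card G = 2 ∨
      (∃ (K : Type) (_ : Field K) (_ : Fintype K) (q : ℕ), Fintype.card K = q ∧ Odd q ∧
        (Nonempty (G ≃* Matrix.ProjectiveSpecialLinearGroup (Fin 2) K) ∨
          Nonempty (G ≃* Matrix.ProjectiveSpecialLinearGroup (Fin 3) K))) ∨
      (∃ (K : Type) (_ : Field K) (_ : Fintype K) (q : ℕ), Fintype.card K = q ^ 2 ∧ Odd q ∧
        Nonempty (G ≃* Cfsg.PSU 3 K q)) ∨
      Nonempty (G ≃* alternatingGroup (Fin 7)) ∨ Cfsg.IsM11 G := by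
  haveI : Fact (Nat.Prime 2) := ⟨Nat.prime_two⟩
  by_cases hc : IsMulCommutative G
  · left
    letI : CommGroup G := { ‹Group G› with mul_comm := fun a b => mul_comm' a b }
    exact ((Nat.prime_dvd_prime_iff_eq Nat.prime_two IsSimpleGroup.prime_card).1 h2).symm
  haveI : Group.IsPerfect G := ⟨by
    rcases (inferInstance : (commutator G).Normal).eq_bot_or_eq_top with h | h
    · exact absurd ⟨⟨fun a b => commutatorElement_eq_one_iff_mul_comm.1 (by
        rw [← Subgroup.mem_bot, ← h]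
        exact Subgroup.commutator_mem_commutator (Subgroup.mem_top a) (Subgroup.mem_top b))⟩⟩ hc
    · exact h⟩
  let F := GaloisField 2 4
  haveI : Fintype F := Fintype.ofFinite F
  have hF : Fintype.card F = 16 := by
    rw [← Nat.card_eq_fintype_card, GaloisField.card 2 4 (by norm_num)]; norm_num
  obtain ⟨U⟩ := (inferInstance : Nonempty (Sylow 2 (Cfsg.PSU 3 F 4)))
  rcases S0516.result hc (prankLE_two h2 P hb) P hF U with ⟨n, hn, hd⟩ | h | h | ⟨e⟩
  · rcases GWDihedral.dihedralGW G inferInstance hc P n hn hd with ⟨K, i, j, hodd, he⟩ | h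
    · exact Or.inr (Or.inl ⟨K, i, j, _, rfl, hodd, Or.inl he⟩)
    · exact Or.inr (Or.inr (Or.inr (Or.inl h)))
  · rcases hQD G inferInstance P h with ⟨K, i, j, hq, he⟩ | ⟨K, i, j, q, hK, hq, he⟩ | h
    · exact Or.inr (Or.inl ⟨K, i, j, _, rfl, Nat.odd_iff.2 (by omega), Or.inr he⟩)
    · exact Or.inr (Or.inr (Or.inl ⟨K, i, j, q, hK, Nat.odd_iff.2 (by omega), he⟩))
    · exact Or.inr (Or.inr (Or.inr (Or.inr h)))
  · rcases hWR G inferInstance P h with ⟨K, i, j, hq, he⟩ | h | h
    · exact Or.inr (Or.inl ⟨K, i, j, _, rfl, hq, Or.inr he⟩)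
    · exact Or.inr (Or.inr (Or.inl h))
    · exact Or.inr (Or.inr (Or.inr (Or.inr h)))
  · exact absurd hb (not_bicyclic_of_shape ((UFourSylow.usylow_psu hF U).congr (Nonempty.some e).symm).shape)

end Cfsg.Agent.BicyclicSimple
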